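import Groth.Agent.FGA29.EulerLC
import Groth.Agent.Snapper75.Push
import Groth.Agent.E4O.FibreComp
import Groth.Agent.DCX42.LocalFP
import Groth.Agent.LimTop61.ModDescent
import Groth.Agent.QCFilt57.FPGen
import Groth.Agent.Desc59.AmpleDesc
import Mathlib.Combinatorics.Nullstellensatz

/-! Euler characteristics of twists on the fibres, uniformly in the exponents. -/

set_option autoImplicit false
set_option backward.isDefEq.respectTransparency.types false
set_option maxSynthPendingDepth 6
universe u

open CategoryTheory CategoryTheory.Limits AlgebraicGeometry TopologicalSpace Opposite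

noncomputable section

namespace Groth.Agent.Flat75

/-- Polynomial functions of degree `≤ D` agreeing on a box agree everywhere. -/
theorem eq_of_eq_box {r D : ℕ} {f g : (Fin r → ℕ) → ℚ} (hf : f ∈ Snapper75.polySub r (D + 1))
    (hg : g ∈ Snapper75.polySub r (D + 1)) (h : ∀ n : Fin r → Fin (D + 1), f (fun i => n i) = g (fun i => n i)) :
    f = g := by
  classical
  obtain ⟨P, hP, hPe⟩ := Snapper75.mem_polySub_iff.1 (Submodule.sub_mem _ hf hg)
  have hP0 : P = 0 := by
    refine MvPolynomial.eq_zero_of_eval_zero_at_prod_finset P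
      (fun _ => (Finset.range (D + 1)).image fun j : ℕ => (j : ℚ)) (fun i => ?_) fun x hx => ?_
    · rw [Finset.card_image_of_injective _ Nat.cast_injective, Finset.card_range, Nat.lt_succ_iff,
        MvPolynomial.degreeOf_le_iff]
      intro m hm
      have := hP m hm
      rw [Snapper75.sum_eq_finsupp_sum] at this
      have := Finset.single_le_sum (f := fun j => m j) (fun _ _ => Nat.zero_le _) (Finset.mem_univ i)
      omega
    · choose j hj hjx using fun i => Finset.mem_image.1 (hx i)
      have hx' : x = fun i => ((j i : ℕ) : ℚ) := funext fun i => (hjx i).symm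
      rw [hx', ← hPe j]
      have := h fun i => ⟨j i, Finset.mem_range.1 (hj i)⟩
      simp only at this
      rw [Pi.sub_apply, this, sub_self]
  funext n
  have := hPe n
  rw [hP0, map_zero, Pi.sub_apply, sub_eq_zero] at this
  exact this

variable {X S : Scheme.{u}}

/-- The fibre dimension is bounded over quasi-compact opens. -/
theorem exists_dim_bound (f : X ⟶ S) [LocallyOfFiniteType f] [QuasiCompact f] {V : S.Opens}
    (hV : IsCompact (V : Set S)) :
    ∃ d : ℕ, ∀ y ∈ V, topologicalKrullDim ↥(f.fiber y) ≤ (d : WithBot ℕ∞) := by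
  classical
  have hloc : ∀ x : X, ∃ U : X.Opens, x ∈ U ∧ ∃ m : ℕ, ∀ z ∈ U, E4O.fdeg f z ≤ m := by
    intro x
    obtain ⟨U, hx, hU⟩ := E4O.exists_open_forall_fibreDimAt_le f x
    obtain ⟨w, -, -, hw, -, -⟩ := E4O.exists_fibreDimAt_eq f x
    exact ⟨U, hx, E4O.fdeg f w, fun z hz => by
      have := (E4O.fdeg_le_fibreDimAt specializes_rfl rfl).trans ((hU z hz).trans hw.le)
      exact_mod_cast this⟩
  choose U hxU m hm using hloc
  obtain ⟨T, hT⟩ := (QuasiCompact.isCompact_preimage (f := f) _ V.2 hV).elim_finite_subcover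
    (fun x => (U x : Set X)) (fun x => (U x).2) fun x _ => Set.mem_iUnion.2 ⟨x, hxU x⟩
  refine ⟨T.sup m, fun y hy => (E4O.dim_fiber_le_iff f y _).2 fun x hx => ?_⟩
  obtain ⟨x', hx'T, hxx'⟩ := Set.mem_iUnion₂.1 (hT (show f x ∈ V from hx.symm ▸ hy))
  exact_mod_cast (hm x' x hxx').trans (Finset.le_sup hx'T)

theorem isFlatOver_twist (f : X ⟶ S) {F L : X.Modules} [F.IsQuasicoherent] (hF : FlatMod.IsFlatOver f F)
    (hL : PicF.IsInvertible L) : FlatMod.IsFlatOver f (CohB1.tensorMod F L) := fun x => by
  obtain ⟨e⟩ := Snapper75.nonempty_stalk_twist F hL x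
  unfold FlatMod.IsFlatOverAt
  let _ := FlatMod.moduleStalkOver f (CohB1.tensorMod F L) x
  let _ := FlatMod.moduleStalkOver f F x
  have := hF x
  unfold FlatMod.IsFlatOverAt at this
  exact Module.Flat.of_linearEquiv
    ({ toFun := e
       map_add' := map_add e
       map_smul' := fun a v => map_smul e ((f.stalkMap x).hom a) v
       invFun := e.symm
       left_inv := e.left_inv
       right_inv := e.right_inv } :
      letI := FlatMod.moduleStalkOver f (CohB1.tensorMod F L) x
      letI := FlatMod.moduleStalkOver f F x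
      (CohB1.tensorMod F L).presheaf.stalk x ≃ₗ[S.presheaf.stalk (f.base x)] F.presheaf.stalk x)

theorem isFP_twist {F L : X.Modules} (hF : CohB1.IsFP F) (hL : PicF.IsInvertible L) :
    CohB1.IsFP (CohB1.tensorMod F L) := by
  refine DCX42.isFP_of_local _ fun x => ?_
  obtain ⟨U, hx, ⟨e⟩⟩ := hL x
  have : CohB1.IsFP F := hF
  refine ⟨U, hx, QCFilt57.isFP_of_iso ?_ (LimTop61.isFP_pullback (f := U.ι) F)⟩
  exact (EGA73.tensUnitRight _).symm ≪≫
    EGA73.tensIso (Iso.refl _) (e.symm ≪≫ (Scheme.Modules.restrictFunctorIsoPullback U.ι).app L) ≪≫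
    (Desc59.AmpleDesc.pullTensIso U.ι F L).symm ≪≫
    ((Scheme.Modules.restrictFunctorIsoPullback U.ι).app _).symm

theorem tensorPows_facts (f : X ⟶ S) : ∀ {t : ℕ} (L : Fin t → X.Modules), (∀ i, PicF.IsInvertible (L i)) →
    ∀ (n : Fin t → ℕ) {F : X.Modules}, CohB1.IsFP F → FlatMod.IsFlatOver f F →
    CohB1.IsFP (Curv2.tensorPows F t L n) ∧ FlatMod.IsFlatOver f (Curv2.tensorPows F t L n)
  | 0, _, _, _, _, hF, hfl => ⟨hF, hfl⟩
  | t + 1, L, hL, n, _, hF, hfl => by
    obtain ⟨h1, h2⟩ := tensorPows_facts f (fun i : Fin t => L i.castSucc) (fun i => hL _)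
      (fun i => n i.castSucc) hF hfl
    have : CohB1.IsFP _ := h1
    exact ⟨isFP_twist h1 (EGA73.isInvertible_tensorPow (hL _) _),
      isFlatOver_twist f h2 (EGA73.isInvertible_tensorPow (hL _) _)⟩

def pullPows {Y : Scheme.{u}} (g : Y ⟶ X) : ∀ (t : ℕ) (L : Fin t → X.Modules), (∀ i, PicF.IsInvertible (L i)) →
    ∀ (n : Fin t → ℕ) (F : X.Modules),
      ((Scheme.Modules.pullback g).obj (Curv2.tensorPows F t L n) ≅
        Curv2.tensorPows ((Scheme.Modules.pullback g).obj F) t (fun i => (Scheme.Modules.pullback g).obj (L i)) n)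
  | 0, _, _, _, _ => Iso.refl _
  | t + 1, L, hL, n, F => Desc59.AmpleDesc.pullTensIso g _ _ ≪≫
      EGA73.tensIso (pullPows g t (fun i => L i.castSucc) (fun i => hL _) (fun i => n i.castSucc) F)
        (Amp73.pullPowIso g (hL _) _)

/-- The twisted Euler characteristics of a flat family are locally constant, uniformly in the exponents. -/
theorem euler_tensorPows_locConst (f : X ⟶ S) [IsProper f] [LocallyOfFinitePresentation f]
    (F : X.Modules) (hF : CohB1.IsFP F) (hfl : FlatMod.IsFlatOver f F)
    {t : ℕ} (L : Fin t → X.Modules) (hL : ∀ i, PicF.IsInvertible (L i)) (s : S) :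
    ∃ U : S.Opens, s ∈ U ∧ ∀ s' : S, s' ∈ U → ∀ n : Fin t → ℕ,
      @Curv2.euler (S.residueField s') _ (f.fiber s') ⟨f.fiberToSpecResidueField s'⟩
            ((Scheme.Modules.pullback (f.fiberι s')).obj (Curv2.tensorPows F t L n)) =
        @Curv2.euler (S.residueField s) _ (f.fiber s) ⟨f.fiberToSpecResidueField s⟩
            ((Scheme.Modules.pullback (f.fiberι s)).obj (Curv2.tensorPows F t L n)) := by
  classical
  obtain ⟨V, hV, hsV, -⟩ := exists_isAffineOpen_mem_and_subset (x := s) (U := ⊤) trivial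
  obtain ⟨D, hD⟩ := exists_dim_bound f hV.isCompact
  let e : (y : S) → (Fin t → ℕ) → ℤ := fun y n =>
    @Curv2.euler (S.residueField y) _ (f.fiber y) ⟨f.fiberToSpecResidueField y⟩
      ((Scheme.Modules.pullback (f.fiberι y)).obj (Curv2.tensorPows F t L n))
  have hlc : ∀ n, IsLocallyConstant fun y => e y n := fun n => by
    obtain ⟨h1, h2⟩ := tensorPows_facts f L hL n hF hfl
    have : CohB1.IsFP _ := h1
    exact FGA29.EulerLC.isLocallyConstant_eulerChar f (Curv2.tensorPows F t L n) h1 h2
  have hpoly : ∀ y ∈ V, (fun n => (e y n : ℚ)) ∈ Snapper75.polySub t (D + 1) := by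
    intro y hy
    let _ : (f.fiber y).Over (Spec (CommRingCat.of (S.residueField y))) := ⟨f.fiberToSpecResidueField y⟩
    have : IsProper (f.fiber y ↘ Spec (CommRingCat.of (S.residueField y))) :=
      MorphismProperty.pullback_snd (P := @IsProper) _ _ inferInstance
    have : CohB1.IsFP F := hF
    have hq : F.IsQuasicoherent := inferInstance
    have hc : Coh.IsCoh ((Scheme.Modules.pullback (f.fiberι y)).obj F) :=
      have : F.IsFiniteType := inferInstance
      ⟨QCPull72.isQuasicoherent_pullback _ F, QCPull72.isFiniteType_pullback _ F⟩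
    have hd : topologicalKrullDim (CohB1.support ((Scheme.Modules.pullback (f.fiberι y)).obj F)) <
        ((D + 1 : ℕ) : WithBot ℕ∞) :=
      lt_of_le_of_lt ((topologicalKrullDim_subspace_le (f.fiber y) _).trans (hD y hy))
        (by exact_mod_cast Nat.lt_succ_self D)
    have h := Snapper75.chi_mem_polySub (S.residueField y) (r := t)
      (L := fun i => (Scheme.Modules.pullback (f.fiberι y)).obj (L i))
      (fun i => Amp73.isInvertible_pullback _ (hL i)) (D + 1) _ hc hd
    convert h using 1
    funext n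
    exact congrArg (fun z : ℤ => (z : ℚ)) (Crv77.euler_congr (pullPows (f.fiberι y) t L hL n F))
  let U : S.Opens := ⟨(V : Set S) ∩ ⋂ n : Fin t → Fin (D + 1), {y | e y (fun i => n i) = e s (fun i => n i)},
    V.2.inter (isOpen_iInter_of_finite fun n => (hlc _).isOpen_fiber _)⟩
  refine ⟨U, ⟨hsV, Set.mem_iInter.2 fun n => rfl⟩, fun s' hs' n => ?_⟩
  have := congrFun (eq_of_eq_box (hpoly s' hs'.1) (hpoly s hsV) fun n => by
    exact_mod_cast (Set.mem_iInter.1 hs'.2 n : e s' _ = e s _)) n
  exact Int.cast_injective this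

end Groth.Agent.Flat75

end
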